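import Groth.Agent.H8Lim.InvertibleStage
import Groth.Agent.H8Lim.RelAmpleStage
import Groth.Agent.VarietyLib.HilbStratum
import Groth.Agent.NormAmple8.Main
import Groth.Agent.SDiv28.Norm.LocFree
import Groth.Agent.Desc19b.AmpleFpqc
import Groth.Agent.FlatMor12.ProjectiveAmple
import Groth.Prelude.Def_CurvBase

/-!
# An ample module on a field extension gives an ample module

Descend the module to a finitely generated subalgebra, specialise at a closed point and take the norm.
-/

set_option autoImplicit false
set_option linter.style.haveILetI false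
set_option backward.isDefEq.respectTransparency false
set_option backward.isDefEq.respectTransparency.types false
set_option maxHeartbeats 1000000

universe u

open CategoryTheory CategoryTheory.Limits AlgebraicGeometry TopologicalSpace Opposite
open Groth.Agent.AmpleLib Groth.Agent.VarietyLib

namespace Groth.Agent.AmpleDesc8

variable (A B : Type u) [CommRing A] [CommRing B] [Algebra A B]

/-- The structure morphism of a member of the diagram of subalgebras. -/
noncomputable abbrev subStr (i : (Finset B)ᵒᵖ) :
    (relSpecDiagram A B).obj i ⟶ Spec (CommRingCat.of A) :=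
  Spec.map (CommRingCat.ofHom (algebraMap A (Algebra.adjoin A ((i.unop : Finset B) : Set B))))

theorem map_subStr {i j : (Finset B)ᵒᵖ} (φ : i ⟶ j) :
    (relSpecDiagram A B).map φ ≫ subStr A B j = subStr A B i := by
  refine (Spec.map_comp _ _).symm.trans (congrArg Spec.map ?_)
  ext r
  rfl

theorem cone_subStr (i : (Finset B)ᵒᵖ) :
    (relSpecCone A B).π.app i ≫ subStr A B i = Spec.map (CommRingCat.ofHom (algebraMap A B)) := by
  refine (Spec.map_comp _ _).symm.trans (congrArg Spec.map ?_)
  ext r
  rfl

variable {k : Type u} [Field k] {K' : Type u} [Field K'] [Algebra k K']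

/-- An ample module on a finite extension gives one below, by the norm. -/
theorem exists_ample_of_finite_extension [Module.Finite k K'] {X X' : Scheme.{u}}
    (f : X ⟶ Spec (CommRingCat.of k)) (π : X' ⟶ X) (g : X' ⟶ Spec (CommRingCat.of K'))
    (H : IsPullback π g f (Spec.map (CommRingCat.ofHom (algebraMap k K'))))
    (L : X'.Modules) (hL : CohB1.IsAmple L) : ∃ M : X.Modules, CohB1.IsAmple M := by
  let s := Spec.map (CommRingCat.ofHom (algebraMap k K'))
  haveI h1 : IsFinite s := by
    rw [IsFinite.SpecMap_iff]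
    exact RingHom.finite_algebraMap.mpr inferInstance
  haveI h2 : Flat s := by
    rw [HasRingHomProperty.Spec_iff (P := @Flat)]
    exact RingHom.flat_algebraMap_iff.mpr inferInstance
  haveI h3 : LocallyOfFinitePresentation s := by
    rw [HasRingHomProperty.Spec_iff (P := @LocallyOfFinitePresentation)]
    exact RingHom.finitePresentation_algebraMap.mpr (Algebra.FinitePresentation.of_finiteType.mp inferInstance)
  haveI h4 : Surjective s := ⟨fun y => ⟨default, Subsingleton.elim (α := PrimeSpectrum k) _ _⟩⟩
  haveI : IsFinite π := MorphismProperty.of_isPullback H.flip h1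
  haveI : Flat π := MorphismProperty.of_isPullback H.flip h2
  haveI : LocallyOfFinitePresentation π := MorphismProperty.of_isPullback H.flip h3
  haveI : Surjective π := MorphismProperty.of_isPullback H.flip h4
  exact NormAmple8.exists_ample_of_normish (SDiv28.Norm.normishOfFinLocFree π) L hL

/-- Ampleness descends along any extension of fields, up to the choice of the module. -/
theorem exists_ample_of_extension (k : Type u) [Field k] (X : Scheme.{u}) [X.Over (Spec (CommRingCat.of k))]
    (K : Type u) [Field K] [Algebra k K] (L' : (Curv2.bc k X K).Modules) (hL' : CohB1.IsAmple L') :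
    ∃ L : X.Modules, CohB1.IsAmple L := by
  let f : X ⟶ Spec (CommRingCat.of k) := X ↘ Spec (CommRingCat.of k)
  let a : Spec (CommRingCat.of K) ⟶ Spec (CommRingCat.of k) := Spec.map (CommRingCat.ofHom (algebraMap k K))
  haveI : Surjective a := ⟨fun y => ⟨default, Subsingleton.elim (α := PrimeSpectrum k) _ _⟩⟩
  haveI : IsAffineHom (Curv2.bcFst k X K) := MorphismProperty.pullback_fst _ _ inferInstance
  haveI : Surjective (Curv2.bcFst k X K) := MorphismProperty.pullback_fst _ _ inferInstance
  haveI : CompactSpace (Curv2.bc k X K : Scheme.{u}) := (isAmple_iff_affGlocus.1 hL').2.1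
  haveI : QuasiSeparatedSpace (Curv2.bc k X K : Scheme.{u}) :=
    FlatMor12.ProjectiveAmple.quasiSeparatedSpace_of_ample ⟨L', hL'⟩
  haveI : CompactSpace X := (Curv2.bcFst k X K).surjective.compactSpace (Curv2.bcFst k X K).continuous
  haveI : QuasiSeparatedSpace X := Desc19b.quasiSeparatedSpace_of_surjective (Curv2.bcFst k X K)
  let D := relSpecDiagram k K
  let c := relSpecCone k K
  haveI : ∀ i, CompactSpace (D.obj i) := fun i => inferInstanceAs (CompactSpace (Spec _))
  haveI : ∀ i, QuasiSeparatedSpace (D.obj i) := fun i => inferInstanceAs (QuasiSeparatedSpace (Spec _))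
  let i₀ : (Finset K)ᵒᵖ := op ∅
  let σ₀ := subStr k K i₀
  haveI : IsAffineHom σ₀ := inferInstanceAs (IsAffineHom (Spec.map _))
  let P := pullback f σ₀
  let p : P ⟶ D.obj i₀ := pullback.snd f σ₀
  haveI : CompactSpace P := QuasiCompact.compactSpace_of_compactSpace (pullback.fst f σ₀)
  haveI : QuasiSeparatedSpace P := quasiSeparatedSpace_of_quasiSeparated (pullback.fst f σ₀)
  haveI : QuasiCompact p := inferInstance
  haveI : QuasiCompact (𝟙 P ≫ p) := by rw [Category.id_comp]; infer_instance
  haveI : QuasiSeparated (𝟙 P ≫ p) := by rw [Category.id_comp]; infer_instance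
  have hw : Curv2.bcFst k X K ≫ f = (Curv2.bcSnd k X K ≫ c.π.app i₀) ≫ σ₀ := by
    rw [Category.assoc, cone_subStr]; exact pullback.condition
  let qY : Curv2.bc k X K ⟶ P := pullback.lift (Curv2.bcFst k X K) (Curv2.bcSnd k X K ≫ c.π.app i₀) hw
  have hY : IsPullback qY (Curv2.bcSnd k X K) p (c.π.app i₀) := by
    refine IsPullback.of_right (t := (IsPullback.of_hasPullback f σ₀)) ?_ (pullback.lift_snd _ _ _)
    rw [pullback.lift_fst, cone_subStr]
    exact IsPullback.of_hasPullback _ _
  have hX : IsPullback qY (𝟙 _) (𝟙 P) qY := IsPullback.of_vert_isIso ⟨by simp⟩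
  obtain ⟨j, φ, Xj, Yj, fj, gj, pY, pX, qYj, qXj, Lj, hYj, hXj, hqYj, hqXj, -, -, hLj, ⟨e⟩⟩ :=
    H8Lim.exists_stage_invertible (isLimitRelSpecCone k K) (𝟙 P) p hY hX L' (isAmple_iff_affGlocus.1 hL').1
  have hj : IsPullback pX (fj ≫ gj) (𝟙 P ≫ p) (D.map φ) := hXj.paste_vert hYj
  haveI : IsAffineHom pX := MorphismProperty.of_isPullback hj.flip inferInstance
  haveI : CompactSpace Xj := QuasiCompact.compactSpace_of_compactSpace pX
  haveI : QuasiSeparatedSpace Xj := quasiSeparatedSpace_of_quasiSeparated pX
  obtain ⟨l, ψ, hl⟩ := H8Lim.exists_stage_isAmple_baseChange (isLimitRelSpecCone k K) (fj ≫ gj) Lj hLj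
    (hqXj.paste_vert hqYj) (isAmple_of_iso e.symm hL')
  have hW := hl l (𝟙 l) (pullback.fst (fj ≫ gj) (D.map ψ)) (pullback.snd (fj ≫ gj) (D.map ψ))
    (by rw [Category.id_comp]; exact IsPullback.of_hasPullback _ _)
  let A := Algebra.adjoin k ((l.unop : Finset K) : Set K)
  haveI : Algebra.FiniteType k A := (Subalgebra.fg_iff_finiteType _).mp (Subalgebra.fg_adjoin_finset _)
  obtain ⟨m, hm⟩ := Ideal.exists_maximal A
  letI := Ideal.Quotient.field m
  haveI : Algebra.FiniteType k (A ⧸ m) :=
    .of_surjective (Ideal.Quotient.mkₐ k m) Ideal.Quotient.mk_surjective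
  haveI : Module.Finite k (A ⧸ m) := finite_of_finite_type_of_isJacobsonRing k (A ⧸ m)
  let h : Spec (CommRingCat.of (A ⧸ m)) ⟶ D.obj l := Spec.map (CommRingCat.ofHom (Ideal.Quotient.mk m))
  haveI : IsAffineHom h := inferInstanceAs (IsAffineHom (Spec.map _))
  let b := pullback.snd (fj ≫ gj) (D.map ψ)
  have hbase : h ≫ D.map ψ ≫ D.map φ ≫ σ₀ = Spec.map (CommRingCat.ofHom (algebraMap k (A ⧸ m))) := by
    rw [map_subStr, map_subStr]
    refine (Spec.map_comp _ _).symm.trans (congrArg Spec.map ?_)
    ext r
    rfl
  have h4 : IsPullback (pullback.fst f σ₀) (𝟙 P ≫ p) f σ₀ := by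
    rw [Category.id_comp]; exact IsPullback.of_hasPullback _ _
  have H := (((IsPullback.of_hasPullback b h).paste_horiz (IsPullback.of_hasPullback (fj ≫ gj) (D.map ψ))).paste_horiz
    hj).paste_horiz h4
  simp only [Category.assoc] at H
  rw [hbase] at H
  haveI : IsAffineHom (pullback.fst b h) := MorphismProperty.pullback_fst (P := @IsAffineHom) b h ‹IsAffineHom h›
  exact exists_ample_of_finite_extension f _ _ H _
    (isAmple_pullback_of_isAffineHom (pullback.fst b h) hW)

end Groth.Agent.AmpleDesc8
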