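import Groth.Agent.AmpleDesc8.FieldExt
import Groth.Agent.FlatMor12.ProjectiveAmple
import Groth.Agent.Props12.AmpleExternal
import Groth.Agent.CAlgSmall.ProjMore
import Groth.Agent.RelVALib.ChowPn
import Groth.Agent.S0086

/-!
# Quasi-projectivity and projectivity descend along extensions of the base field
-/

set_option autoImplicit false
set_option linter.style.haveILetI false
set_option backward.isDefEq.respectTransparency false
set_option backward.isDefEq.respectTransparency.types false

universe u

open CategoryTheory CategoryTheory.Limits AlgebraicGeometry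
open Groth.Agent.AmpleLib Groth.Agent.FlatMor12.ProjectiveAmple

namespace Groth.Agent.AmpleDesc8

variable {k : Type u} [Field k] {X : Scheme.{u}} (p : X ⟶ Spec (CommRingCat.of k)) (K : Type u) [Field K]
  [Algebra k K]

/-- The structure morphism of the spectrum of an extension of fields is fpqc. -/
theorem fpqc_specMap : (@Surjective ⊓ @Flat ⊓ @QuasiCompact : MorphismProperty Scheme.{u})
    (Spec.map (CommRingCat.ofHom (algebraMap k K))) := by
  refine ⟨⟨⟨fun y => ⟨default, Subsingleton.elim (α := PrimeSpectrum k) _ _⟩⟩, ?_⟩, inferInstance⟩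
  rw [HasRingHomProperty.Spec_iff (P := @Flat)]
  exact RingHom.flat_algebraMap_iff.mpr inferInstance

theorem exists_ample_spec : ∃ N : (Spec (CommRingCat.of k)).Modules, CohB1.IsAmple N :=
  ⟨_, CAlgSmall.ProjMore.isAmple_of_isAffine⟩

/-- Quasi-projectivity descends along an extension of fields. -/
theorem descend_quasiProjective
    [LocallyOfFiniteType (pullback.snd p (Spec.map (CommRingCat.ofHom (algebraMap k K))))]
    (h : ∃ L : (pullback p (Spec.map (CommRingCat.ofHom (algebraMap k K)))).Modules, CohB1.IsAmple L) :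
    LocallyOfFiniteType p ∧ QuasiCompact p ∧ ∃ L : X.Modules, CohB1.IsAmple L := by
  haveI hp : LocallyOfFiniteType p :=
    (inferInstance : MorphismProperty.DescendsAlong @LocallyOfFiniteType (@Surjective ⊓ @Flat ⊓ @QuasiCompact)).of_isPullback
      (IsPullback.of_hasPullback p (Spec.map (CommRingCat.ofHom (algebraMap k K)))).flip (fpqc_specMap K) inferInstance
  let inst : X.Over (Spec (CommRingCat.of k)) := ⟨p⟩
  obtain ⟨L', hL'⟩ := h
  obtain ⟨L, hL⟩ := exists_ample_of_extension k X K L' hL'
  haveI : CompactSpace X := (isAmple_iff_affGlocus.1 hL).2.1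
  exact ⟨hp, inferInstance, L, hL⟩

/-- Projective space immersions descend along an extension of fields. -/
theorem exists_immersion_of_baseChange
    (h : ∃ (n : ℕ) (i : pullback p (Spec.map (CommRingCat.ofHom (algebraMap k K))) ⟶ CohB1.ProjSpaceOver n (Spec (CommRingCat.of K))),
      IsImmersion i ∧ i ≫ CohB1.ProjSpaceOver.toBase n (Spec (CommRingCat.of K)) = pullback.snd p (Spec.map (CommRingCat.ofHom (algebraMap k K)))) :
    ∃ (n : ℕ) (i : X ⟶ CohB1.ProjSpaceOver n (Spec (CommRingCat.of k))),
      IsImmersion i ∧ QuasiCompact i ∧ i ≫ CohB1.ProjSpaceOver.toBase n (Spec (CommRingCat.of k)) = p := by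
  obtain ⟨n, i, hi, e⟩ := h
  haveI : IsProper (CohB1.ProjSpaceOver.toBase n (Spec (CommRingCat.of K))) := RelVALib.isProper_toBase n _
  haveI : IsLocallyNoetherian (CohB1.ProjSpaceOver n (Spec (CommRingCat.of K))) :=
    LocallyOfFiniteType.isLocallyNoetherian (CohB1.ProjSpaceOver.toBase n (Spec (CommRingCat.of K)))
  haveI : LocallyOfFiniteType (pullback.snd p (Spec.map (CommRingCat.ofHom (algebraMap k K)))) := e ▸ inferInstance
  haveI : CompactSpace (CohB1.ProjSpaceOver n (Spec (CommRingCat.of K))) :=
    QuasiCompact.compactSpace_of_compactSpace (CohB1.ProjSpaceOver.toBase n (Spec (CommRingCat.of K)))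
  haveI : IsNoetherian (CohB1.ProjSpaceOver n (Spec (CommRingCat.of K))) := {}
  haveI : TopologicalSpace.NoetherianSpace ↥(pullback p (Spec.map (CommRingCat.ofHom (algebraMap k K)))) :=
    i.isEmbedding.isInducing.noetherianSpace
  haveI : QuasiCompact i := ⟨fun U _ _ => TopologicalSpace.NoetherianSpace.isCompact _⟩
  obtain ⟨hp, hq, L, hL⟩ := descend_quasiProjective p K
    (exists_isAmple_of_immersion exists_ample_spec i)
  exact exists_immersion_of_ample exists_ample_spec p ⟨L, hL⟩

end Groth.Agent.AmpleDesc8
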